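import Cfsg.Agent.Lib.Spor.Cos.J3Out.Data
import Cfsg.Agent.Lib.Spor.Cos.J3Cent.Data
import Cfsg.Agent.Lib.Spor.Cos.J3.ActAData
import Cfsg.Agent.Lib.Spor.Cos.J3.Words

/-! Data and checks for the outer automorphisms of the third Janko group. -/

set_option autoImplicit false
set_option maxRecDepth 100000
set_option maxHeartbeats 4000000

namespace Cfsg.Agent.Spor.Cos.J3Out

/-- Base points. -/
def ptsA : List ℕ := [0, 5, 1]

/-- Two words give the same element. -/
noncomputable def same (v w : List ℕ) : Bool :=
  (v.all fun s => Nat.blt s 4) && (w.all fun s => Nat.blt s 4) && agree J3.actA ptsA v w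

/-- The product of the two involutions. -/
def u0 : List ℕ := [1, 0]

theorem cls_chk : ∀ j < 480, chkConj J3.actA [0, 5, 1] 0 [1, 0] 16 clsU clsK 480 j = true := by
  refine of_blocks (size := 256) (b := 2) (by decide) (by decide) fun j hj => ?_
  interval_cases j <;> decide +kernel

/-- The fixed points are listed. -/
noncomputable def chkFixed (p : ℕ) : Bool := !(Nat.beq (J3.actA.go [1, 0] p) p) || fixL.any (Nat.beq p)

theorem fix_chk : ∀ p < 6156, chkFixed p = true := by
  refine of_blocks (size := 512) (b := 13) (by decide) (by decide) fun j hj => ?_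
  interval_cases j <;> decide +kernel

/-- A power of the product. -/
def powW (i : ℕ) : List ℕ := (List.replicate i u0).flatten

/-- A word in three generators. -/
def subW (X : List (List ℕ)) (w : List ℕ) : List ℕ := (w.map fun s => X.getD s []).flatten

theorem u0_chk : (same (powW 17) [] && !(same u0 []) && same ([1] ++ (u0 ++ [1])) u0.reverse &&
    same ([1] ++ u0) [0]) = true := by decide +kernel

/-- The involutions of the centraliser are listed. -/
noncomputable def chkInvol (n : ℕ) : Bool :=
  (fun w : List ℕ => !(agree J3.actA ptsA (w ++ w) []) || agree J3.actA ptsA w [] ||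
    force (invIdx.at n) fun j => Nat.blt j invW.length && same w (invW.getD j []))
    (J3Cent.qL.W.getD (n / 60) [] ++ J3Cent.hL.W.getD (n % 60) [])

theorem invol_chk : ∀ n < 1920, chkInvol n = true := by
  refine of_blocks (size := 256) (b := 8) (by decide) (by decide) fun j hj => ?_
  interval_cases j <;> decide +kernel

/-- The triple of a pair. -/
def tripW (i j : ℕ) : List (List ℕ) := [[1], [1] ++ powW i, invW.getD j []]

/-- A pair violates a relation or is listed. -/
noncomputable def chkPair (n : ℕ) : Bool :=
  (fun X : List (List ℕ) =>
    (relW.any fun r => !(agree J3.actA ptsA (subW X (List.replicate r.2 r.1).flatten) [])) ||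
      survW.any fun o => Nat.beq (o.1 * 131 + o.2.1) n) (tripW (n / 131) (n % 131))

theorem pair_chk : ∀ n < 2227, chkPair n = true := by
  refine of_blocks (size := 256) (b := 9) (by decide) (by decide) fun j hj => ?_
  interval_cases j <;> decide +kernel

/-- A listed pair is a conjugate of one of the two standard triples. -/
noncomputable def chkSurv (o : ℕ × ℕ × List ℕ × ℕ) : Bool :=
  match o with
  | (i, j, c, k) => Nat.blt j 131 && Nat.blt k 2 && (c.all fun s => Nat.blt s 4) &&
      same (c ++ ([1] ++ c.reverse)) [1] && same (c ++ ([0] ++ c.reverse)) ([1] ++ powW i) &&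
      same (c ++ (baseW.getD k [] ++ c.reverse)) (invW.getD j [])

theorem surv_chk : survW.all chkSurv = true := by decide +kernel

theorem expr_chk : ((List.range 4).all fun s => same (subW [[1], [0], baseW.getD 0 []] (exprW.getD s [])) [s]) = true := by
  decide +kernel

theorem rel_chk : (relW.all fun r => r.1.all (fun s => Nat.blt s 3) &&
    same (subW [[1], [0], baseW.getD 0 []] (List.replicate r.2 r.1).flatten) []) = true := by decide +kernel

theorem img_chk : (((List.range 4).all fun s => same (imgW.getD s [] ++ imgW.getD s []) [] &&
      same (imgW.getD s []) (subW [[1], [0], baseW.getD 1 []] (exprW.getD s []))) &&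
    (J3.words.all fun r => r.all (fun s => Nat.blt s 4) && same (subW imgW r) []) &&
    (baseW.all fun w => w.all (fun s => Nat.blt s 4) && !(same w []) && same (w ++ w) [] && same ([1] ++ w) (w ++ [1])) &&
    !(agree J3.actA ptsA (baseW.getD 1 []) (baseW.getD 0 []))) = true := by decide +kernel

end Cfsg.Agent.Spor.Cos.J3Out
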