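import Cfsg.Agent.Lib.Spor.Cos.OutTwo
import Cfsg.Agent.Lib.Spor.Cos.J3.IsSimple
import Cfsg.Agent.Lib.Spor.Cos.J3Cent.Main
import Cfsg.Agent.Lib.Spor.Cos.J3Out.Checks

/-!
The outer automorphism group of the presented third Janko group.
-/

set_option autoImplicit false
set_option maxRecDepth 100000
set_option maxHeartbeats 1000000

namespace Cfsg.Agent.Spor.Cos.J3Out

open J3 (P g g_sq g_gen homA)

/-- The base point of the identity map. -/
noncomputable abbrev id0 : P ≃* P := MulEquiv.refl P

instance : Finite P := J3.finite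

theorem ev_id (w : List ℕ) : ev (J3Cent.gJ id0) w = ev g w := by
  rw [show J3Cent.gJ id0 = g from funext fun _ => rfl]

theorem eq_of_same {v w : List ℕ} (h : same v w = true) : ev g v = ev g w := by
  simp only [same, Bool.and_eq_true] at h
  exact ev_eq_of_agree homA J3.det (by simpa [Act.lettersOk, J3.actA] using h.1.1)
    (by simpa [Act.lettersOk, J3.actA] using h.1.2) h.2

theorem ne_of_not_agree {v w : List ℕ} (hv : ∀ s ∈ v, s < 4) (hw : ∀ s ∈ w, s < 4)
    (h : agree J3.actA ptsA v w = false) : ev g v ≠ ev g w := by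
  intro e
  have : agree J3.actA ptsA v w = true := by
    rw [agree, List.all_eq_true]
    intro p hp
    rw [force_eq]
    have hp' := J3Cent.pts_lt p hp
    have := congrArg (fun y : P => (J3.piA y ⟨p, hp'⟩ : ℕ)) e
    simp only [homA.apply_ev v hv, homA.apply_ev w hw] at this
    rw [this]
    exact Nat.beq_refl _
  rw [this] at h
  exact Bool.noConfusion h

/-- The involution fixed by the normalised automorphisms. -/
noncomputable def t : P := ev g [1]

/-- The product of two generators. -/
noncomputable def u : P := ev g u0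

theorem t_mul_self : t * t = 1 := by
  show g 1 * 1 * (g 1 * 1) = 1
  rw [mul_one]; exact g_sq 1

theorem t_inv : t⁻¹ = t := inv_eq_of_mul_eq_one_right t_mul_self

theorem u_pow : u ^ 17 = 1 := by
  have h := u0_chk
  simp only [Bool.and_eq_true] at h
  rw [u, ← ev_power]
  exact eq_of_same h.1.1.1

theorem u_ne : u ≠ 1 := by
  have h := u0_chk
  simp only [Bool.and_eq_true, Bool.not_eq_true'] at h
  have h2 : agree J3.actA ptsA u0 [] = false := by
    have := h.1.1.2
    simpa [same, u0] using this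
  exact ne_of_not_agree (by decide) (by simp) h2

theorem u_order : orderOf u = 17 := orderOf_eq_prime (hp := ⟨by norm_num⟩) u_pow u_ne

theorem t_inverts : t * u * t = u⁻¹ := by
  have h := u0_chk
  simp only [Bool.and_eq_true] at h
  have h1 := eq_of_same h.1.2
  rw [ev_append, ev_append, ev_reverse (fun s _ => g_sq s) u0 (by decide : ∀ s ∈ u0, s < 4), ← mul_assoc] at h1
  exact h1

theorem t_mul_u : t * u = ev g [0] := by
  have h := u0_chk
  simp only [Bool.and_eq_true] at h
  rw [← eq_of_same h.2, ev_append]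
  rfl

theorem card_P : Nat.card P = 50232960 := J3.card_eq

theorem card_Ct : Nat.card (Subgroup.centralizer ({t} : Set P)) = 1920 := by
  have h : Nat.card (Subgroup.centralizer ({J3Cent.tJ id0} : Set P)) = 1920 := J3Cent.card_CJ id0
  rwa [show J3Cent.tJ id0 = t from ev_id [1]] at h

theorem conj_t {x : P} (hx : orderOf x = 2) : IsConj t x := by
  have h := J3Cent.conj_involutions id0 (J3Cent.tJ id0) x (J3Cent.tJ_order id0) hx
  rwa [show J3Cent.tJ id0 = t from ev_id [1]] at h

theorem commute_u {x : P} (hx : x * u = u * x) : x ∈ Subgroup.zpowers u := by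
  set C := Subgroup.centralizer ({u} : Set P) with hC
  have h := card_centralizer_le (fun s _ => g_sq s) homA J3Cent.pts_lt (x := J3.baseA) (zw := u0)
    (by decide +kernel) (by decide +kernel) cls_chk (L := fixL) fix_chk (stab J3.piA J3.baseA) fun y => mem_stab
  rw [J3.card_stab_base, show fixL.length = 2 from rfl, show ev g u0 = u from rfl] at h
  have hle : Subgroup.zpowers u ≤ C := by
    rw [Subgroup.zpowers_le, hC, Subgroup.mem_centralizer_singleton_iff]
  have hd : 17 ∣ Nat.card C := by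
    have := Subgroup.card_dvd_of_le hle
    rwa [Nat.card_zpowers, u_order] at this
  have hcard : Nat.card C ≤ 17 := by
    by_contra hgt
    have h34 : Nat.card C = 34 := by
      obtain ⟨k, hk⟩ := hd
      have : Nat.card C * 480 ≤ 2 * 8160 := h
      omega
    haveI : Fact (Nat.Prime 2) := ⟨Nat.prime_two⟩
    obtain ⟨i, hi⟩ := exists_prime_orderOf_dvd_card' (G := C) 2 (by rw [h34]; norm_num)
    rw [← Subgroup.orderOf_coe] at hi
    obtain ⟨c, hc⟩ := isConj_iff.1 (conj_t hi)
    have hm : c⁻¹ * u * c ∈ Subgroup.centralizer ({t} : Set P) := by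
      have hcu : (i : P) * u = u * i := Subgroup.mem_centralizer_singleton_iff.1 i.2
      rw [Subgroup.mem_centralizer_singleton_iff]
      rw [← hc] at hcu
      calc c⁻¹ * u * c * t = c⁻¹ * (u * (c * t * c⁻¹)) * c := by group
        _ = c⁻¹ * (c * t * c⁻¹ * u) * c := by rw [hcu]
        _ = t * (c⁻¹ * u * c) := by group
    have h17 := Subgroup.orderOf_dvd_natCard _ hm
    rw [card_Ct] at h17
    have : orderOf (c⁻¹ * u * c) = 17 := by
      rw [show c⁻¹ * u * c = MulAut.conj c⁻¹ u by simp, MulEquiv.orderOf_eq, u_order]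
    rw [this] at h17
    norm_num at h17
  have : Subgroup.zpowers u = C := Subgroup.eq_of_le_of_card_ge hle (by rwa [Nat.card_zpowers, u_order])
  rw [this, hC, Subgroup.mem_centralizer_singleton_iff]
  exact hx

theorem exists_pow {x : P} (hx : x ∈ Subgroup.zpowers u) : ∃ i : ℕ, i < 17 ∧ x = u ^ i := by
  classical
  rw [mem_zpowers_iff_mem_range_orderOf, u_order] at hx
  obtain ⟨i, hi, rfl⟩ := Finset.mem_image.1 hx
  exact ⟨i, Finset.mem_range.1 hi, rfl⟩

theorem exists_conj_pow {x : P} (hx : x ^ 17 = 1) : ∃ (c : P) (i : ℕ), i < 17 ∧ x = c * u ^ i * c⁻¹ := by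
  rcases eq_or_ne x 1 with rfl | hne
  · exact ⟨1, 0, by norm_num, by simp⟩
  haveI : Fact (Nat.Prime 17) := ⟨by norm_num⟩
  have h1 : (Nat.card P).factorization 17 = 1 := by
    rw [card_P, show (50232960 : ℕ) = 17 ^ 1 * 2954880 by norm_num, Nat.factorization_mul (by norm_num) (by norm_num),
      Finsupp.add_apply, Nat.Prime.factorization_pow (by norm_num), Finsupp.single_eq_same,
      Nat.factorization_eq_zero_of_not_dvd (show ¬ 17 ∣ 2954880 by norm_num)]
  have ox : orderOf x = 17 := orderOf_eq_prime hx hne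
  let S : Sylow 17 P := Sylow.ofCard (Subgroup.zpowers u) (by rw [Nat.card_zpowers, u_order, h1]; norm_num)
  let R : Sylow 17 P := Sylow.ofCard (Subgroup.zpowers x) (by rw [Nat.card_zpowers, ox, h1]; norm_num)
  obtain ⟨c, hc⟩ := MulAction.exists_smul_eq P S R
  have : x ∈ (c • S : Sylow 17 P) := by
    rw [hc]
    exact Subgroup.mem_zpowers x
  obtain ⟨y, hy, e⟩ := this
  obtain ⟨i, hi, rfl⟩ := exists_pow hy
  exact ⟨c, i, hi, e.symm⟩

theorem exists_y {y : P} (hy : y * y = 1) (h17 : (t * y) ^ 17 = 1) :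
    ∃ (c : P) (i : ℕ), i < 17 ∧ c * t = t * c ∧ y = c * (t * u ^ i) * c⁻¹ := by
  obtain ⟨c, i, hi, e⟩ := exists_conj_pow h17
  rcases Nat.eq_zero_or_pos i with rfl | hpos
  · refine ⟨1, 0, hi, by simp, ?_⟩
    have e1 : t * y = 1 := by rw [e]; simp
    rw [← mul_right_inj t, e1]
    simp [t_mul_self]
  have hyi : y⁻¹ = y := inv_eq_of_mul_eq_one_right hy
  have hinv : t * (t * y) * t = (t * y)⁻¹ := by
    rw [mul_inv_rev, hyi, t_inv, ← mul_assoc t t y, t_mul_self, one_mul]
  rw [e] at hinv
  set s := c⁻¹ * t * c with hs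
  have hs2 : s * u ^ i * s = (u ^ i)⁻¹ := by
    calc s * u ^ i * s = c⁻¹ * (t * (c * u ^ i * c⁻¹) * t) * c := by rw [hs]; group
      _ = (u ^ i)⁻¹ := by rw [hinv]; group
  have hss : s * s = 1 := by
    rw [hs, show c⁻¹ * t * c * (c⁻¹ * t * c) = c⁻¹ * (t * t) * c by group, t_mul_self]
    group
  have ht2 : t * u ^ i * t = (u ^ i)⁻¹ := by
    have := congrArg (fun z => z ^ i) t_inverts
    simp only [inv_pow] at this
    rw [← this, show t * u * t = t * u * t⁻¹ by rw [t_inv], conj_pow, t_inv]
  have hcomm : (s * t) * u ^ i = u ^ i * (s * t) := by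
    have a : t * u ^ i = (u ^ i)⁻¹ * t := by
      rw [← mul_left_inj t, ht2, mul_assoc, t_mul_self, mul_one]
    have b : s * (u ^ i)⁻¹ = u ^ i * s := by
      rw [← mul_left_inj s, mul_assoc (u ^ i) s s, hss, mul_one, ← hs2]
      simp only [← mul_assoc, hss, one_mul]
      rw [mul_assoc, hss, mul_one]
    rw [mul_assoc, a, ← mul_assoc, b, mul_assoc]
  have hu : (s * t) * u = u * (s * t) := by
    have hcop : Nat.Coprime i (orderOf u) := by
      rw [u_order]
      exact ((Nat.Prime.coprime_iff_not_dvd (by norm_num : Nat.Prime 17)).2 fun hd => by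
        have := Nat.le_of_dvd hpos hd; omega).symm
    have hmem : u ∈ Subgroup.zpowers (u ^ i) := by
      obtain ⟨m, hm⟩ := exists_pow_eq_self_of_coprime hcop
      exact ⟨m, by simpa using hm⟩
    obtain ⟨m, hm⟩ := hmem
    rw [← hm]
    exact (Commute.zpow_right hcomm m).eq
  obtain ⟨j, -, hj⟩ := exists_pow (commute_u hu)
  set k := 9 * j with hk
  have hst : s = u ^ k * t * (u ^ k)⁻¹ := by
    have h1 : u ^ k * t * (u ^ k)⁻¹ = u ^ (k + k) * t := by
      have : t * (u ^ k)⁻¹ = u ^ k * t := by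
        have h2 := congrArg (fun z => (z ^ k)⁻¹) t_inverts
        simp only [inv_pow, inv_inv] at h2
        rw [← mul_left_inj t, mul_assoc (u ^ k) t t, t_mul_self, mul_one]
        refine (congrArg _ rfl).trans (Eq.trans ?_ h2)
        rw [show t * u * t = t * u * t⁻¹ by rw [t_inv], conj_pow, t_inv, mul_inv_rev, mul_inv_rev, t_inv, mul_assoc]
      rw [mul_assoc, this, ← mul_assoc, pow_add]
    rw [h1, ← hj.trans (show u ^ j = u ^ (k + k) by
      rw [hk, show 9 * j + 9 * j = j + 17 * j by omega, pow_add, pow_mul, u_pow, one_pow, mul_one]), mul_assoc,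
      t_mul_self, mul_one]
  refine ⟨c * u ^ k, i, hi, ?_, ?_⟩
  · have : c * s * c⁻¹ = t := by rw [hs]; group
    rw [hst] at this
    calc c * u ^ k * t = c * (u ^ k * t * (u ^ k)⁻¹) * c⁻¹ * (c * u ^ k) := by group
      _ = t * (c * u ^ k) := by rw [this]
  · have h3 : y = t * (c * u ^ i * c⁻¹) := by rw [← e, ← mul_assoc, t_mul_self, one_mul]
    rw [h3]
    have h4 : c * u ^ k * t * (c * u ^ k)⁻¹ = t := by
      have : c * s * c⁻¹ = t := by rw [hs]; group
      rw [hst] at this
      exact (show c * u ^ k * t * (c * u ^ k)⁻¹ = c * (u ^ k * t * (u ^ k)⁻¹) * c⁻¹ by group).trans this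
    calc t * (c * u ^ i * c⁻¹) = (c * u ^ k * t * (c * u ^ k)⁻¹) * (c * u ^ i * c⁻¹) := by rw [h4]
      _ = c * u ^ k * t * ((u ^ k)⁻¹ * u ^ i) * c⁻¹ := by group
      _ = c * u ^ k * t * (u ^ i * (u ^ k)⁻¹) * c⁻¹ := by
        rw [((Commute.refl u).pow_pow k i).inv_left.eq]
      _ = c * u ^ k * (t * u ^ i) * (c * u ^ k)⁻¹ := by group

theorem exists_invol {z : P} (hz : z * z = 1) (hne : z ≠ 1) (hc : z * t = t * z) :
    ∃ j < 131, z = ev g (invW.getD j []) := by
  let e := id0
  have hmem : z ∈ J3Cent.CJ e := by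
    rw [J3Cent.CJ, show J3Cent.tJ e = t from ev_id [1]]
    exact Subgroup.mem_centralizer_singleton_iff.2 hc
  obtain ⟨⟨a, b⟩, hab⟩ := (J3Cent.complJ e).2 ⟨z, hmem⟩
  obtain ⟨q, hq, eq⟩ := (ListGrp.mem_grp (J3Cent.ok_q e)).1 (Subgroup.mem_subgroupOf.1 a.2)
  obtain ⟨h, hh, eh⟩ := (ListGrp.mem_grp (J3Cent.ok_h e)).1 (Subgroup.mem_subgroupOf.1 b.2)
  have hq' : q < 32 := hq
  have hh' : h < 60 := hh
  have hz' : z = ev g (J3Cent.qL.W.getD q [] ++ J3Cent.hL.W.getD h []) := by
    have h5 : (a.1.1 : P) * b.1.1 = z := congrArg Subtype.val hab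
    rw [ev_append, ← ev_id, ← ev_id, ← h5, ← eq, ← eh]
    rfl
  have hn := invol_chk (q * 60 + h) (by omega)
  rw [chkInvol, show (q * 60 + h) / 60 = q by omega, show (q * 60 + h) % 60 = h by omega] at hn
  simp only [force_eq, Bool.or_eq_true, Bool.not_eq_true', Bool.and_eq_true] at hn
  set w := J3Cent.qL.W.getD q [] ++ J3Cent.hL.W.getD h [] with hw
  have hl : ∀ s ∈ w, s < 4 := by
    have hL : ∀ {L : ListGrp}, L.chk J3.actA [0, 5, 1] = true → ∀ k < L.m, ∀ s ∈ L.W.getD k [], s < 4 := fun {L} hc k hkm => by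
      simp only [ListGrp.chk, Bool.and_eq_true] at hc
      rw [List.getD_eq_getElem _ _ hkm]
      exact Act.lt_of_lettersOk hc.1.1.1 (List.getElem_mem _)
    intro s hs
    rw [hw] at hs
    rcases List.mem_append.1 hs with hs | hs
    exacts [hL J3Cent.q_chk q hq s hs, hL J3Cent.h_chk h hh s hs]
  rcases hn with (hn | hn) | ⟨hj, hsame⟩
  · refine absurd ?_ (ne_of_not_agree (fun s hs => (List.mem_append.1 hs).elim (hl s) (hl s)) (by simp) hn)
    rw [ev_append, ← hz']
    exact hz
  · refine absurd ?_ hne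
    rw [hz']
    exact ev_eq_of_agree homA J3.det (v := w) (w := [])
      (by simpa [Act.lettersOk, J3.actA] using hl) (by simp [Act.lettersOk]) hn
  · exact ⟨_, Nat.le_of_ble_eq_true hj, hz'.trans (eq_of_same hsame)⟩

/-- The images of the three generators of a standard triple. -/
noncomputable def X (k : ℕ) (s : ℕ) : P := ev g ([[1], [0], baseW.getD k []].getD s [])

theorem ev_subW (Y : List (List ℕ)) (w : List ℕ) : ev g (subW Y w) = ev (fun s => ev g (Y.getD s [])) w :=
  ev_subst g _ w

theorem ev_expr {s : ℕ} (hs : s < 4) : ev (X 0) (exprW.getD s []) = g s := by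
  have h := eq_of_same (List.all_eq_true.1 expr_chk s (List.mem_range.2 hs))
  rw [ev_subW] at h
  rw [show g s = ev g [s] by simp [ev]]
  exact h

theorem ext_aut {φ ψ : MulAut P} (h : ∀ s < 3, φ (X 0 s) = ψ (X 0 s)) : φ = ψ := by
  have key : ∀ s < 4, φ (g s) = ψ (g s) := fun s hs => by
    have h' : ∀ i, φ (X 0 i) = ψ (X 0 i) := fun i => by
      rcases Nat.lt_or_ge i 3 with hi | hi
      · exact h i hi
      · rw [X, List.getD_eq_default _ _ hi]
        simp [ev]
    rw [← ev_expr hs]
    show φ.toMonoidHom (ev (X 0) _) = ψ.toMonoidHom (ev (X 0) _)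
    rw [ev_map, ev_map]
    exact congrArg (fun f => ev f _) (funext h')
  refine MulEquiv.toMonoidHom_injective (MonoidHom.eq_of_eqOn_dense g_gen ?_)
  rintro _ ⟨s, hs, rfl⟩
  exact key s hs

theorem exists_normal (φ : MulAut P) : ∃ (c : P) (k : ℕ), k < 2 ∧ ∀ s < 3, φ (X 0 s) = c * X k s * c⁻¹ := by
  have hb : ∀ k < 2, ((baseW.getD k []).all (fun s => Nat.blt s 4) && !(same (baseW.getD k []) []) &&
      same (baseW.getD k [] ++ baseW.getD k []) [] && same ([1] ++ baseW.getD k []) (baseW.getD k [] ++ [1])) = true := by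
    have h := img_chk
    simp only [Bool.and_eq_true] at h
    intro k hk
    have hlen : k < baseW.length := hk
    rw [List.getD_eq_getElem _ _ hlen]
    exact List.all_eq_true.1 h.1.2 _ (List.getElem_mem _)
  have hx := hb 0 (by norm_num)
  simp only [Bool.and_eq_true, Bool.not_eq_true'] at hx
  have ot : orderOf t = 2 := by
    have := J3Cent.tJ_order id0
    rwa [show J3Cent.tJ id0 = t from ev_id [1]] at this
  obtain ⟨g₁, hg₁⟩ := isConj_iff.1 (conj_t (x := φ t) (by rw [MulEquiv.orderOf_eq, ot]))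
  set φ₁ : MulAut P := MulAut.conj g₁⁻¹ * φ with hφ₁
  have f1 : φ₁ t = t := by
    simp only [hφ₁, MulAut.mul_apply, MulAut.conj_apply, ← hg₁]
    group
  have ha : ev g [0] * ev g [0] = 1 := by
    show g 0 * 1 * (g 0 * 1) = 1
    rw [mul_one]; exact g_sq 0
  obtain ⟨c₁, i, hi, hc₁, hy⟩ := exists_y (y := φ₁ (ev g [0])) (by rw [← map_mul, ha, map_one]) (by
    rw [show t * φ₁ (ev g [0]) = φ₁ (t * ev g [0]) by rw [map_mul, f1], ← map_pow, ← t_mul_u, ← mul_assoc,
      t_mul_self, one_mul, u_pow, map_one])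
  set φ₂ : MulAut P := MulAut.conj c₁⁻¹ * φ₁ with hφ₂
  have f2 : φ₂ t = t := by
    simp only [hφ₂, MulAut.mul_apply, f1, MulAut.conj_apply, inv_inv]
    rw [mul_assoc, ← hc₁, inv_mul_cancel_left]
  have f3 : φ₂ (ev g [0]) = t * u ^ i := by
    simp only [hφ₂, MulAut.mul_apply, hy, MulAut.conj_apply]
    group
  have x3ne : ev g (baseW.getD 0 []) ≠ 1 := by
    have hw : ∀ s ∈ baseW.getD 0 [], s < 4 := fun s hs =>
      Nat.le_of_ble_eq_true (List.all_eq_true.1 hx.1.1.1 s hs)
    refine ne_of_not_agree (w := []) hw (by simp) ?_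
    have := hx.1.1.2
    simp only [same, List.all_nil, Bool.and_true, hx.1.1.1, Bool.true_and] at this
    exact this
  have x3sq : ev g (baseW.getD 0 []) * ev g (baseW.getD 0 []) = 1 := by
    rw [← ev_append]; exact eq_of_same hx.1.2
  have x3c : ev g (baseW.getD 0 []) * t = t * ev g (baseW.getD 0 []) := by
    have := eq_of_same hx.2
    rw [ev_append, ev_append] at this
    exact this.symm
  obtain ⟨j, hj, hz⟩ := exists_invol (z := φ₂ (ev g (baseW.getD 0 []))) (by rw [← map_mul, x3sq, map_one])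
    (fun e => x3ne (φ₂.injective (e.trans (map_one φ₂).symm)))
    (by rw [← f2, ← map_mul, x3c, map_mul, f2])
  have him : ∀ s, φ₂ (X 0 s) = ev g ((tripW i j).getD s []) := by
    intro s
    rcases s with _ | _ | _ | s
    · exact f2
    · show φ₂ (ev g [0]) = ev g ([1] ++ powW i)
      rw [f3, ev_append, powW, ev_power]
      rfl
    · exact hz
    · simp [X, tripW, ev]
  have hn := pair_chk (i * 131 + j) (by omega)
  rw [chkPair, show (i * 131 + j) / 131 = i by omega, show (i * 131 + j) % 131 = j by omega, Bool.or_eq_true] at hn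
  rcases hn with hn | hn
  · exfalso
    obtain ⟨r, hr, hbad⟩ := List.any_eq_true.1 hn
    have hrel := List.all_eq_true.1 rel_chk r hr
    simp only [Bool.and_eq_true] at hrel
    have h1 : ev g (subW (tripW i j) (List.replicate r.2 r.1).flatten) = 1 := by
      rw [ev_subW, show (fun s => ev g ((tripW i j).getD s [])) = fun s => φ₂.toMonoidHom (X 0 s) from
        funext fun s => (him s).symm, ← ev_map]
      show φ₂ (ev (X 0) _) = 1
      rw [show ev (X 0) (List.replicate r.2 r.1).flatten = 1 from (ev_subW _ _).symm.trans (eq_of_same hrel.2), map_one]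
    have hlet : ∀ Y : List (List ℕ), (∀ w ∈ Y, ∀ s ∈ w, s < 4) → ∀ w : List ℕ, ∀ s ∈ subW Y w, s < 4 := by
      intro Y hY w s hs
      obtain ⟨_, hl, hsl⟩ := List.mem_flatten.1 hs
      obtain ⟨a, -, rfl⟩ := List.mem_map.1 hl
      rcases Nat.lt_or_ge a Y.length with ha | ha
      · rw [List.getD_eq_getElem _ _ ha] at hsl; exact hY _ (List.getElem_mem _) s hsl
      · rw [List.getD_eq_default _ _ ha] at hsl; simp at hsl
    refine ne_of_not_agree (w := []) (hlet _ ?_ _) (by simp) (by simpa using hbad) h1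
    intro w hw s hs
    simp only [tripW, List.mem_cons, List.not_mem_nil, or_false] at hw
    rcases hw with rfl | rfl | rfl
    · revert s; decide
    · simp only [powW, u0, List.mem_append, List.mem_flatten, List.mem_replicate, List.mem_singleton] at hs
      rcases hs with rfl | ⟨l, ⟨-, rfl⟩, hsl⟩
      · norm_num
      · revert s; decide
    · have key : (invW.all fun w => w.all fun s => Nat.blt s 4) = true := by decide +kernel
      rw [List.getD_eq_getElem _ _ (show j < invW.length from hj)] at hs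
      exact Nat.le_of_ble_eq_true (List.all_eq_true.1 (List.all_eq_true.1 key _ (List.getElem_mem _)) s hs)
  · obtain ⟨⟨i', j', c, k⟩, ho, e⟩ := List.any_eq_true.1 hn
    have hs := List.all_eq_true.1 surv_chk _ ho
    simp only [chkSurv, Bool.and_eq_true] at hs
    obtain ⟨⟨⟨⟨⟨hj', hk⟩, hcl⟩, s1⟩, s2⟩, s3⟩ := hs
    have e' : i' * 131 + j' = i * 131 + j := Nat.eq_of_beq_eq_true e
    have hj131 : j' < 131 := Nat.le_of_ble_eq_true hj'
    obtain rfl : i' = i := by omega
    obtain rfl : j' = j := by omega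
    have hcr : ∀ s ∈ c, s < 4 := fun s hs => Nat.le_of_ble_eq_true (List.all_eq_true.1 hcl s hs)
    refine ⟨g₁ * c₁ * ev g c, k, Nat.le_of_ble_eq_true hk, fun s hs => ?_⟩
    have hstd : ev g c * X k s * (ev g c)⁻¹ = ev g ((tripW i' j').getD s []) := by
      rw [← ev_reverse (fun s _ => g_sq s) c hcr, X, mul_assoc, ← ev_append, ← ev_append]
      interval_cases s
      · exact eq_of_same s1
      · exact eq_of_same s2
      · exact eq_of_same s3
    rw [← him s] at hstd
    have hφ : φ (X 0 s) = g₁ * c₁ * φ₂ (X 0 s) * (g₁ * c₁)⁻¹ := by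
      simp only [hφ₂, hφ₁, MulAut.mul_apply, MulAut.conj_apply]
      group
    rw [hφ, ← hstd]
    group

theorem exists_psi : ∃ ψ : MulAut P, ∀ s < 3, ψ (X 0 s) = X 1 s := by
  have h := img_chk
  simp only [Bool.and_eq_true] at h
  obtain ⟨⟨⟨h1, h2⟩, h3⟩, -⟩ := h
  have hi : ∀ s, (if s < 4 then ev g (imgW.getD s []) else 1) * (if s < 4 then ev g (imgW.getD s []) else 1) = 1 := by
    intro s
    split_ifs with hs
    · have := List.all_eq_true.1 h1 s (List.mem_range.2 hs)
      simp only [Bool.and_eq_true] at this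
      rw [← ev_append]
      exact eq_of_same this.1
    · simp
  obtain ⟨π, hπ⟩ := J3.pres.exists_hom (fun s => if s < 4 then ev g (imgW.getD s []) else 1) hi (fun w hw => by
    have := List.all_eq_true.1 h2 w hw
    simp only [Bool.and_eq_true] at this
    have e := eq_of_same this.2
    rw [ev_subW] at e
    refine Eq.trans (congrArg (fun f => ev f w) (funext fun s => ?_)) e
    rcases Nat.lt_or_ge s 4 with hs | hs
    · rw [if_pos hs]
    · rw [if_neg (by omega), List.getD_eq_default _ _ (show imgW.length ≤ s from hs)]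
      rfl) (fun s hs => if_neg (by
        have : J3.alph.length ≤ s := hs
        simp only [J3.alph, List.length_cons, List.length_nil] at this
        omega))
  have hπ' : ∀ s, π (g s) = if s < 4 then ev g (imgW.getD s []) else 1 := hπ
  have hinj : Function.Injective π := by
    have := J3.isSimple
    rw [← MonoidHom.ker_eq_bot_iff]
    refine (π.normal_ker.eq_bot_or_eq_top).resolve_right fun htop => ?_
    have : π (g 1) = 1 := MonoidHom.mem_ker.1 (htop ▸ Subgroup.mem_top _)
    rw [hπ', if_pos (by norm_num)] at this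
    have hne : ev g [1] ≠ ev g [] := ne_of_not_agree (by decide) (by simp) (by decide +kernel)
    exact hne this
  let ψ : MulAut P := MulEquiv.ofBijective π (Finite.injective_iff_bijective.1 hinj)
  have hpi : ∀ s, ψ (g s) = if s < 4 then ev g (imgW.getD s []) else 1 := hπ'
  have hX : ∀ s < 4, ψ (g s) = ev (X 1) (exprW.getD s []) := fun s hs => by
    rw [hpi, if_pos hs]
    have := List.all_eq_true.1 h1 s (List.mem_range.2 hs)
    simp only [Bool.and_eq_true] at this
    rw [eq_of_same this.2, ev_subW]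
    rfl
  refine ⟨ψ, fun s hs => ?_⟩
  have h0 : ψ (X 0 0) = X 1 0 := by
    show ψ (g 1 * 1) = ev g [1]
    rw [mul_one, hpi, if_pos (by norm_num)]
    rfl
  have h1' : ψ (X 0 1) = X 1 1 := by
    show ψ (g 0 * 1) = ev g [0]
    rw [mul_one, hpi, if_pos (by norm_num)]
    rfl
  interval_cases s
  · exact h0
  · exact h1'
  · show ψ.toMonoidHom (ev g (baseW.getD 0 [])) = ev g (baseW.getD 1 [])
    rw [ev_map]
    have hb : (((baseW.getD 0 []).all fun s => Nat.blt s 4) &&
      same (subW imgW (baseW.getD 0 [])) (baseW.getD 1 [])) = true := by decide +kernel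
    simp only [Bool.and_eq_true] at hb
    rw [← eq_of_same hb.2, ev_subW]
    refine congrArg (fun f => ev f _) (funext fun s => ?_)
    rcases Nat.lt_or_ge s 4 with hs | hs
    · exact (hpi s).trans (if_pos hs)
    · rw [List.getD_eq_default _ _ (show imgW.length ≤ s from hs)]
      exact (hpi s).trans (if_neg (by omega))

theorem card_out : Nat.card (Cfsg.Out P) = 2 := by
  obtain ⟨ψ, hψ⟩ := exists_psi
  refine card_out_eq_two ψ ?_ fun φ => ?_
  · rintro ⟨c, hc⟩
    have hcX : ∀ s < 3, c * X 0 s * c⁻¹ = X 1 s := fun s hs => by rw [← hψ s hs, ← hc]; rfl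
    have ht : c * t = t * c := mul_inv_eq_iff_eq_mul.1 (hcX 0 (by norm_num))
    have ha : c * ev g [0] = ev g [0] * c := mul_inv_eq_iff_eq_mul.1 (hcX 1 (by norm_num))
    have hu : c * u = u * c := by
      have e : u = t * ev g [0] := by rw [← t_mul_u, ← mul_assoc, t_mul_self, one_mul]
      rw [e, ← mul_assoc, ht, mul_assoc, ha, mul_assoc]
    obtain ⟨k, hk, rfl⟩ := exists_pow (commute_u hu)
    have hk0 : u ^ (k + k) = 1 := by
      have h2 := congrArg (fun z => z ^ k) t_inverts
      simp only [inv_pow] at h2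
      rw [show t * u * t = t * u * t⁻¹ by rw [t_inv], conj_pow, t_inv] at h2
      rw [← ht, mul_assoc, t_mul_self, mul_one] at h2
      rw [pow_add]
      nth_rewrite 1 [h2]
      exact inv_mul_cancel _
    have hk1 : u ^ k = 1 := by
      have := congrArg (fun z => z ^ 9) hk0
      simp only [one_pow, ← pow_mul] at this
      rw [show (k + k) * 9 = k + 17 * k by omega, pow_add, pow_mul, u_pow, one_pow, mul_one] at this
      exact this
    have h3 := hcX 2 (by norm_num)
    rw [hk1, one_mul, inv_one, mul_one] at h3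
    have h := img_chk
    simp only [Bool.and_eq_true, Bool.not_eq_true', List.all_eq_true] at h
    have hl : ∀ k < 2, ∀ s ∈ baseW.getD k [], s < 4 := fun k hk s hs => by
      have hlen : k < baseW.length := hk
      rw [List.getD_eq_getElem _ _ hlen] at hs
      exact Nat.le_of_ble_eq_true ((h.1.2 _ (List.getElem_mem hlen)).1.1.1 s hs)
    exact ne_of_not_agree (hl 1 (by norm_num)) (hl 0 (by norm_num)) h.2 h3.symm
  · obtain ⟨c, k, hk, hφ⟩ := exists_normal φ
    interval_cases k
    · exact Or.inl ⟨c, ext_aut fun s hs => (hφ s hs).symm⟩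
    · refine Or.inr ⟨c, ?_⟩
      rw [eq_mul_inv_iff_mul_eq]
      exact ext_aut fun s hs => by rw [MulAut.mul_apply, hψ s hs, hφ s hs]; rfl

end Cfsg.Agent.Spor.Cos.J3Out
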